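import Groth.Agent.Lib.GrpdB.Calc
import Groth.Agent.Lib.GrpQuot.Affine
import Groth.Prelude.Def_Desc
import Mathlib

/-! # Conjugating arrows by a subgroupoid with a quotient of objects -/

set_option autoImplicit false
set_option linter.style.haveILetI false
universe u

open CategoryTheory CategoryTheory.Limits AlgebraicGeometry

noncomputable section

namespace Groth.Agent.SubQuot19

open Groth.Agent.GrpdB

/-- A subgroupoid `P` of `G` over the same objects which is the kernel pair of `q`. -/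
structure Sub {S : Scheme.{u}} (G : Grpd.GroupoidScheme S) {P : Scheme.{u}} (ι : P ⟶ G.R) {Ub : Scheme.{u}}
    (q : G.U ⟶ Ub) : Prop where
  he : ∃ eP : G.U ⟶ P, eP ≫ ι = G.e
  hi : ∃ iP : P ⟶ P, iP ≫ ι = ι ≫ G.i
  hc : ∃ cP : pullback (ι ≫ G.s) (ι ≫ G.t) ⟶ P,
    cP ≫ ι = pullback.map (ι ≫ G.s) (ι ≫ G.t) G.s G.t ι ι (𝟙 G.U) (Category.comp_id _) (Category.comp_id _) ≫ G.c
  sq : IsPullback (ι ≫ G.s) (ι ≫ G.t) q q

variable {S : Scheme.{u}} {G : Grpd.GroupoidScheme S} {P : Scheme.{u}} {ι : P ⟶ G.R} {Ub : Scheme.{u}}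
  {q : G.U ⟶ Ub} (h : Sub G ι q) {T T' : Scheme.{u}}

/-- The arrow of `P` from `a` to `b`. -/
def arr (a b : T ⟶ G.U) (e : a ≫ q = b ≫ q) : T ⟶ G.R := h.sq.lift a b e ≫ ι

theorem arr_s (a b : T ⟶ G.U) (e : a ≫ q = b ≫ q) : arr h a b e ≫ G.s = a :=
  (Category.assoc _ _ _).trans (h.sq.lift_fst a b e)

theorem arr_t (a b : T ⟶ G.U) (e : a ≫ q = b ≫ q) : arr h a b e ≫ G.t = b :=
  (Category.assoc _ _ _).trans (h.sq.lift_snd a b e)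

theorem eq_arr (m : T ⟶ P) (a b : T ⟶ G.U) (ha : (m ≫ ι) ≫ G.s = a) (hb : (m ≫ ι) ≫ G.t = b)
    (e : a ≫ q = b ≫ q) : m ≫ ι = arr h a b e := by
  refine congrArg (· ≫ ι) ?_
  apply h.sq.hom_ext
  · rw [h.sq.lift_fst, ← ha, Category.assoc]
  · rw [h.sq.lift_snd, ← hb, Category.assoc]

theorem arr_congr {a a' b b' : T ⟶ G.U} (ha : a = a') (hb : b = b') (e : a ≫ q = b ≫ q) :
    arr h a b e = arr h a' b' (by rw [← ha, ← hb, e]) := by subst ha hb; rfl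

theorem comp_arr (f : T' ⟶ T) (a b : T ⟶ G.U) (e : a ≫ q = b ≫ q) :
    f ≫ arr h a b e = arr h (f ≫ a) (f ≫ b) (by rw [Category.assoc, Category.assoc, e]) := by
  rw [arr, ← Category.assoc]
  exact eq_arr h _ _ _ (by rw [Category.assoc, Category.assoc, h.sq.lift_fst])
    (by rw [Category.assoc, Category.assoc, h.sq.lift_snd]) _

theorem arr_self (a : T ⟶ G.U) : arr h a a rfl = a ≫ G.e := by
  obtain ⟨eP, heP⟩ := h.he
  rw [← heP, ← Category.assoc]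
  refine (eq_arr h (a ≫ eP) a a ?_ ?_ rfl).symm
  · rw [Category.assoc a, heP, Category.assoc, G.e_s, Category.comp_id]
  · rw [Category.assoc a, heP, Category.assoc, G.e_t, Category.comp_id]

theorem inv_arr (a b : T ⟶ G.U) (e : a ≫ q = b ≫ q) : inv' (arr h a b e) = arr h b a e.symm := by
  obtain ⟨iP, hiP⟩ := h.hi
  have e1 : inv' (arr h a b e) = (h.sq.lift a b e ≫ iP) ≫ ι := by
    rw [Category.assoc, hiP, ← Category.assoc]; rfl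
  rw [e1]
  refine eq_arr h _ b a ?_ ?_ _
  · rw [← e1, inv_s, arr_t]
  · rw [← e1, inv_t, arr_s]

theorem cmp_arr (a b c : T ⟶ G.U) (e₁ : a ≫ q = b ≫ q) (e₂ : b ≫ q = c ≫ q)
    (hh : arr h b c e₂ ≫ G.s = arr h a b e₁ ≫ G.t) :
    cmp G (arr h b c e₂) (arr h a b e₁) hh = arr h a c (e₁.trans e₂) := by
  obtain ⟨cP, hcP⟩ := h.hc
  let m : T ⟶ pullback (ι ≫ G.s) (ι ≫ G.t) := pullback.lift (h.sq.lift b c e₂) (h.sq.lift a b e₁)
    (by rw [h.sq.lift_fst, h.sq.lift_snd])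
  have e3 : cmp G (arr h b c e₂) (arr h a b e₁) hh = (m ≫ cP) ≫ ι := by
    rw [Category.assoc, hcP, ← Category.assoc]
    show pullback.lift _ _ _ ≫ G.c = _
    congr 1
    apply pullback.hom_ext
    · rw [pullback.lift_fst, Category.assoc, pullback.lift_fst, pullback.lift_fst_assoc]; rfl
    · rw [pullback.lift_snd, Category.assoc, pullback.lift_snd, pullback.lift_snd_assoc]; rfl
  rw [e3]
  refine eq_arr h _ a c ?_ ?_ _
  · rw [← e3, cmp_s, arr_s]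
  · rw [← e3, cmp_t, arr_t]

theorem cmp_congr' {α α' β β' : T ⟶ G.R} (hα : α = α') (hβ : β = β') (e : α ≫ G.s = β ≫ G.t)
    (e' : α' ≫ G.s = β' ≫ G.t) : cmp G α β e = cmp G α' β' e' := by subst hα hβ; rfl

/-- The translate of `v` by arrows of `P` with target ends `a₁`, `b₁`. -/
def tr (v : T ⟶ G.R) (a₁ b₁ : T ⟶ G.U) (ea : (v ≫ G.t) ≫ q = a₁ ≫ q) (eb : (v ≫ G.s) ≫ q = b₁ ≫ q) :
    T ⟶ G.R :=
  cmp G (cmp G (arr h (v ≫ G.t) a₁ ea) v (arr_s h _ _ _)) (arr h b₁ (v ≫ G.s) eb.symm)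
    ((cmp_s _ _ _).trans (arr_t h _ _ _).symm)

theorem tr_t (v : T ⟶ G.R) (a₁ b₁ : T ⟶ G.U) (ea : (v ≫ G.t) ≫ q = a₁ ≫ q) (eb : (v ≫ G.s) ≫ q = b₁ ≫ q) :
    tr h v a₁ b₁ ea eb ≫ G.t = a₁ := by rw [tr, cmp_t, cmp_t, arr_t]

theorem tr_s (v : T ⟶ G.R) (a₁ b₁ : T ⟶ G.U) (ea : (v ≫ G.t) ≫ q = a₁ ≫ q) (eb : (v ≫ G.s) ≫ q = b₁ ≫ q) :
    tr h v a₁ b₁ ea eb ≫ G.s = b₁ := by rw [tr, cmp_s, arr_s]

theorem tr_congr {v v' : T ⟶ G.R} {a a' b b' : T ⟶ G.U} (hv : v = v') (ha : a = a') (hb : b = b')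
    (ea : (v ≫ G.t) ≫ q = a ≫ q) (eb : (v ≫ G.s) ≫ q = b ≫ q) :
    tr h v a b ea eb = tr h v' a' b' (by rw [← hv, ← ha, ea]) (by rw [← hv, ← hb, eb]) := by
  subst hv ha hb; rfl

theorem comp_tr (f : T' ⟶ T) (v : T ⟶ G.R) (a₁ b₁ : T ⟶ G.U) (ea : (v ≫ G.t) ≫ q = a₁ ≫ q)
    (eb : (v ≫ G.s) ≫ q = b₁ ≫ q) :
    f ≫ tr h v a₁ b₁ ea eb = tr h (f ≫ v) (f ≫ a₁) (f ≫ b₁)
      (by rw [Category.assoc, Category.assoc, Category.assoc, ← ea, Category.assoc])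
      (by rw [Category.assoc, Category.assoc, Category.assoc, ← eb, Category.assoc]) := by
  rw [tr, tr, comp_cmp]
  refine cmp_congr' ?_ ?_ _ _
  · rw [comp_cmp]
    refine cmp_congr' ?_ rfl _ _
    rw [comp_arr]
    exact arr_congr h (Category.assoc _ _ _).symm rfl _
  · rw [comp_arr]
    exact arr_congr h rfl (Category.assoc _ _ _).symm _

theorem tr_self (v : T ⟶ G.R) (a₁ b₁ : T ⟶ G.U) (ha : a₁ = v ≫ G.t) (hb : b₁ = v ≫ G.s) :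
    tr h v a₁ b₁ (by rw [ha]) (by rw [hb]) = v := by
  subst ha hb
  have hh : v ≫ G.s = ((v ≫ G.s) ≫ G.e) ≫ G.t := by rw [Category.assoc, G.e_t, Category.comp_id]
  rw [tr, cmp_congr' (α' := v) ?_ (arr_self h _) _ hh]
  · exact cmp_id' v _ hh
  · refine (cmp_congr' (arr_self h _) rfl _ ?_).trans (id_cmp' v _ ?_) <;>
      rw [Category.assoc, G.e_s, Category.comp_id]

theorem tr_tr (v : T ⟶ G.R) (a₁ b₁ a₂ b₂ : T ⟶ G.U) (ea : (v ≫ G.t) ≫ q = a₁ ≫ q)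
    (eb : (v ≫ G.s) ≫ q = b₁ ≫ q) (ea' : a₁ ≫ q = a₂ ≫ q) (eb' : b₁ ≫ q = b₂ ≫ q) :
    tr h (tr h v a₁ b₁ ea eb) a₂ b₂ (by rw [tr_t, ea']) (by rw [tr_s, eb']) =
      tr h v a₂ b₂ (ea.trans ea') (eb.trans eb') := by
  set w := tr h v a₁ b₁ ea eb with hw
  have k₁ : arr h a₁ a₂ ea' ≫ G.s = (cmp G (cmp G (arr h (v ≫ G.t) a₁ ea) v (arr_s h _ _ _))
      (arr h b₁ (v ≫ G.s) eb.symm) ((cmp_s _ _ _).trans (arr_t h _ _ _).symm)) ≫ G.t := by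
    rw [arr_s, cmp_t, cmp_t, arr_t]
  have k₂ : cmp G (arr h a₁ a₂ ea') w (by rw [arr_s, hw, tr_t]) ≫ G.s = arr h b₂ b₁ eb'.symm ≫ G.t := by
    rw [cmp_s, hw, tr_s, arr_t]
  have k₃ : arr h a₁ a₂ ea' ≫ G.s = arr h (v ≫ G.t) a₁ ea ≫ G.t := by rw [arr_s, arr_t]
  have k₄ : arr h b₁ (v ≫ G.s) eb.symm ≫ G.s = arr h b₂ b₁ eb'.symm ≫ G.t := by rw [arr_s, arr_t]
  show cmp G (cmp G (arr h (w ≫ G.t) a₂ _) w _) (arr h b₂ (w ≫ G.s) _) _ = _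
  rw [cmp_congr' (cmp_congr' (arr_congr h (tr_t h _ _ _ _ _) rfl _) rfl _ _)
    (arr_congr h rfl (tr_s h _ _ _ _ _) _) _ k₂]
  have e1 : cmp G (arr h a₁ a₂ ea') w (by rw [arr_s, hw, tr_t]) =
      cmp G (cmp G (arr h (v ≫ G.t) a₂ (ea.trans ea')) v (arr_s h _ _ _)) (arr h b₁ (v ≫ G.s) eb.symm)
        ((cmp_s _ _ _).trans (arr_t h _ _ _).symm) := by
    refine ((cmp_assoc _ _ _ (k₁.trans (cmp_t _ _ _)) ((cmp_s _ _ _).trans (arr_t h _ _ _).symm)).symm).trans ?_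
    refine cmp_congr' ?_ rfl _ _
    refine ((cmp_assoc _ _ _ k₃ (arr_s h _ _ _)).symm).trans ?_
    exact cmp_congr' (cmp_arr h _ _ _ ea ea' k₃) rfl _ _
  refine (cmp_congr' e1 rfl _ (((cmp_s _ _ _)).trans k₄)).trans ?_
  refine (cmp_assoc _ _ _ ((cmp_s _ _ _).trans (arr_t h _ _ _).symm) k₄).trans ?_
  rw [tr]
  exact cmp_congr' rfl (cmp_arr h _ _ _ eb'.symm eb.symm k₄) _ _

/-- Two translations with inner ends matching compose to a translate of the composite. -/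
theorem cmp_tr_tr (α β : T ⟶ G.R) (a b c : T ⟶ G.U) (hαβ : α ≫ G.s = β ≫ G.t)
    (ea : (α ≫ G.t) ≫ q = a ≫ q) (eb : (α ≫ G.s) ≫ q = b ≫ q) (ec : (β ≫ G.s) ≫ q = c ≫ q) :
    cmp G (tr h α a b ea eb) (tr h β b c (by rw [← hαβ, eb]) ec) (by rw [tr_s, tr_t]) =
      tr h (cmp G α β hαβ) a c (by rw [cmp_t, ea]) (by rw [cmp_s, ec]) := by
  have k₁ : cmp G (arr h (α ≫ G.t) a ea) α (arr_s h _ _ _) ≫ G.s = arr h b (α ≫ G.s) eb.symm ≫ G.t := by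
    rw [cmp_s, arr_t]
  have ebb : (β ≫ G.t) ≫ q = b ≫ q := by rw [← hαβ, eb]
  have k₂ : arr h b (α ≫ G.s) eb.symm ≫ G.s = arr h (β ≫ G.t) b ebb ≫ G.t := by rw [arr_s, arr_t]
  have k₃ : cmp G (arr h (β ≫ G.t) b ebb) β (arr_s h _ _ _) ≫ G.s = arr h c (β ≫ G.s) ec.symm ≫ G.t := by
    rw [cmp_s, arr_t]
  have k₄ : arr h b (α ≫ G.s) eb.symm ≫ G.s = cmp G (arr h (β ≫ G.t) b ebb) β (arr_s h _ _ _) ≫ G.t := by
    rw [arr_s, cmp_t, arr_t]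
  have hid : cmp G (arr h b (α ≫ G.s) eb.symm) (arr h (β ≫ G.t) b ebb) k₂ = (β ≫ G.t) ≫ G.e := by
    rw [cmp_arr, arr_congr h rfl hαβ, arr_self]
  have hmid : cmp G (arr h b (α ≫ G.s) eb.symm) (cmp G (arr h (β ≫ G.t) b ebb) β (arr_s h _ _ _)) k₄ = β := by
    refine ((cmp_assoc _ _ _ k₂ (arr_s h _ _ _)).symm).trans ((cmp_congr' hid rfl _ ?_).trans (id_cmp' _ _ ?_)) <;>
      rw [Category.assoc, G.e_s, Category.comp_id]
  unfold tr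
  set A := cmp G (arr h (α ≫ G.t) a ea) α (arr_s h _ _ _)
  set B := cmp G (arr h (β ≫ G.t) b ebb) β (arr_s h _ _ _)
  have k₅ : A ≫ G.s = β ≫ G.t := by rw [cmp_s, hαβ]
  have k₆ : arr h b (α ≫ G.s) eb.symm ≫ G.s =
      cmp G B (arr h c (β ≫ G.s) ec.symm) k₃ ≫ G.t := by rw [cmp_t, arr_s, cmp_t, arr_t]
  refine (cmp_assoc A _ _ k₁ k₆).trans ?_
  refine (cmp_congr' rfl ((cmp_assoc _ _ _ k₄ k₃).symm.trans (cmp_congr' hmid rfl _ (arr_t h _ _ _).symm)) _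
    (k₅.trans (cmp_t _ _ _).symm)).trans ?_
  refine (cmp_assoc A β _ k₅ (arr_t h _ _ _).symm).symm.trans ?_
  refine cmp_congr' ?_ (arr_congr h rfl (cmp_s α β hαβ).symm _) _ _
  refine (cmp_assoc _ α β (arr_s h _ _ _) hαβ).trans ?_
  exact cmp_congr' (arr_congr h (cmp_t α β hαβ).symm rfl _) rfl _ _

theorem inv_cmp (α β : T ⟶ G.R) (e : α ≫ G.s = β ≫ G.t) :
    inv' (cmp G α β e) = cmp G (inv' β) (inv' α) (by rw [inv_s, inv_t, e]) := by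
  set γ := cmp G α β e
  set δ := cmp G (inv' β) (inv' α) (by rw [inv_s, inv_t, e])
  have h1 : δ ≫ G.s = γ ≫ G.t := by rw [cmp_s, inv_s, cmp_t]
  have h2 : cmp G δ γ h1 = (γ ≫ G.s) ≫ G.e := by
    refine (cmp_assoc (inv' β) (inv' α) γ (by rw [inv_s, inv_t, e]) (by rw [inv_s, cmp_t])).trans ?_
    refine (cmp_congr' rfl (cancel_left α β e) _ (inv_s β)).trans ?_
    refine (G.i_comp β).trans ?_
    rw [cmp_s, Category.assoc]
  have h3 := cancel_right δ γ h1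
  rw [← h3]
  refine ((cmp_congr' h2 rfl _ (by rw [Category.assoc, G.e_s, Category.comp_id, inv_t])).trans ?_).symm
  exact id_cmp' _ _ _

theorem inv_tr (v : T ⟶ G.R) (a b : T ⟶ G.U) (ea : (v ≫ G.t) ≫ q = a ≫ q) (eb : (v ≫ G.s) ≫ q = b ≫ q) :
    inv' (tr h v a b ea eb) = tr h (inv' v) b a (by rw [inv_t, eb]) (by rw [inv_s, ea]) := by
  have k₁ : inv' v ≫ G.s = inv' (arr h (v ≫ G.t) a ea) ≫ G.t := by rw [inv_s, inv_t, arr_s]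
  have k₂ : inv' (arr h b (v ≫ G.s) eb.symm) ≫ G.s = inv' v ≫ G.t := by rw [inv_s, inv_t, arr_t]
  rw [tr, tr, inv_cmp, cmp_congr' rfl (inv_cmp _ _ _) _ (k₂.trans (cmp_t _ _ _).symm)]
  refine (cmp_assoc _ _ _ k₂ k₁).symm.trans ?_
  refine cmp_congr' (cmp_congr' ?_ rfl _ _) ?_ _ _
  · rw [inv_arr]; exact arr_congr h (inv_t v).symm rfl _
  · rw [inv_arr]; exact arr_congr h rfl (inv_s v).symm _

end Groth.Agent.SubQuot19
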