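import Groth.Agent.Lib.SubQuot19.Desc

/-! # The quotient groupoid -/

set_option autoImplicit false
set_option linter.style.haveILetI false
set_option backward.isDefEq.respectTransparency.types false
universe u

open CategoryTheory CategoryTheory.Limits AlgebraicGeometry

noncomputable section

namespace Groth.Agent.SubQuot19

open Groth.Agent.GrpdB

variable {S : Scheme.{u}} (G : Grpd.GroupoidScheme S)

/-- A quotient of the objects together with descended arrows. -/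
structure QData where
  P : Scheme.{u}
  ι : P ⟶ G.R
  Ub : Scheme.{u}
  q : G.U ⟶ Ub
  h : Sub G ι q
  pUb : Ub ⟶ S
  hp : q ≫ pUb = G.pU
  Rb : Scheme.{u}
  jb : Rb ⟶ pullback pUb pUb
  ρ : G.R ⟶ Rb
  sq : IsPullback ρ G.j jb (qq pUb hp)
  inv_ρ : ∀ {T : Scheme.{u}} (v : T ⟶ G.R) (a b : T ⟶ G.U) (ea : (v ≫ G.t) ≫ q = a ≫ q)
    (eb : (v ≫ G.s) ≫ q = b ≫ q), tr h v a b ea eb ≫ ρ = v ≫ ρ
  fin_q : IsFinite q
  flat_q : Flat q
  surj_q : Surjective q
  lfp_q : LocallyOfFinitePresentation q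

variable {G} (D : QData G) {T : Scheme.{u}}

attribute [local instance] QData.fin_q QData.flat_q QData.surj_q QData.lfp_q

namespace QData

instance : IsFinite D.q := D.fin_q
instance : Flat D.q := D.flat_q
instance : Surjective D.q := D.surj_q
instance : IsFinite (qq D.pUb D.hp) :=
  MorphismProperty.pullbackMap (P := @IsFinite) D.fin_q D.fin_q D.hp.symm D.hp.symm
instance : Flat (qq D.pUb D.hp) :=
  MorphismProperty.pullbackMap (P := @Flat) D.flat_q D.flat_q D.hp.symm D.hp.symm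
instance : Surjective (qq D.pUb D.hp) :=
  MorphismProperty.pullbackMap (P := @Surjective) D.surj_q D.surj_q D.hp.symm D.hp.symm
instance : IsFinite D.ρ := MorphismProperty.of_isPullback D.sq.flip inferInstance
instance : Flat D.ρ := MorphismProperty.of_isPullback D.sq.flip inferInstance
instance : Surjective D.ρ := MorphismProperty.of_isPullback D.sq.flip inferInstance

/-- Source of the quotient. -/
def sb : D.Rb ⟶ D.Ub := D.jb ≫ pullback.snd D.pUb D.pUb
/-- Target of the quotient. -/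
def tb : D.Rb ⟶ D.Ub := D.jb ≫ pullback.fst D.pUb D.pUb

theorem ρ_sb : D.ρ ≫ D.sb = G.s ≫ D.q := by
  rw [sb, ← Category.assoc, D.sq.w, Category.assoc, qq_snd, ← Category.assoc, j_snd]

theorem ρ_tb : D.ρ ≫ D.tb = G.t ≫ D.q := by
  rw [tb, ← Category.assoc, D.sq.w, Category.assoc, qq_fst, ← Category.assoc, j_fst]

theorem hom_ext {v v' : T ⟶ G.R} (h₁ : v ≫ D.ρ = v' ≫ D.ρ) (ht : v ≫ G.t = v' ≫ G.t)
    (hs : v ≫ G.s = v' ≫ G.s) : v = v' := by
  refine D.sq.hom_ext h₁ (pullback.hom_ext ?_ ?_)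
  · simpa only [Category.assoc, j_fst] using ht
  · simpa only [Category.assoc, j_snd] using hs

theorem ends {v v' : T ⟶ G.R} (h₁ : v ≫ D.ρ = v' ≫ D.ρ) :
    (v ≫ G.t) ≫ D.q = (v' ≫ G.t) ≫ D.q ∧ (v ≫ G.s) ≫ D.q = (v' ≫ G.s) ≫ D.q := by
  constructor
  · rw [Category.assoc, Category.assoc, ← ρ_tb, ← Category.assoc, h₁, Category.assoc]
  · rw [Category.assoc, Category.assoc, ← ρ_sb, ← Category.assoc, h₁, Category.assoc]

theorem eq_tr {v v' : T ⟶ G.R} (h₁ : v ≫ D.ρ = v' ≫ D.ρ) :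
    v' = tr D.h v (v' ≫ G.t) (v' ≫ G.s) (D.ends h₁).1 (D.ends h₁).2 :=
  D.hom_ext (by rw [D.inv_ρ, h₁]) (tr_t _ _ _ _ _ _).symm (tr_s _ _ _ _ _ _).symm

/-- Pairs of an arrow and a composable arrow of the quotient. -/
abbrev M : Scheme.{u} := pullback (G.s ≫ D.q) D.tb

/-- Partial projection. -/
def F₁ : pullback G.s G.t ⟶ D.M :=
  pullback.lift (pullback.fst G.s G.t) (pullback.snd G.s G.t ≫ D.ρ) (by
    rw [Category.assoc, ρ_tb, ← Category.assoc, pullback.condition, Category.assoc])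

theorem F₁_fst : D.F₁ ≫ pullback.fst (G.s ≫ D.q) D.tb = pullback.fst G.s G.t := pullback.lift_fst _ _ _
theorem F₁_snd : D.F₁ ≫ pullback.snd (G.s ≫ D.q) D.tb = pullback.snd G.s G.t ≫ D.ρ := pullback.lift_snd _ _ _

theorem isPullback_F₁ :
    IsPullback D.F₁ (pullback.snd G.s G.t ≫ G.s) (pullback.snd (G.s ≫ D.q) D.tb ≫ D.sb) D.q := by
  have w : CommSq D.F₁ (pullback.snd G.s G.t ≫ G.s) (pullback.snd (G.s ≫ D.q) D.tb ≫ D.sb) D.q :=
    ⟨by rw [← Category.assoc, F₁_snd, Category.assoc, ρ_sb, Category.assoc]⟩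
  have key : ∀ c : PullbackCone (pullback.snd (G.s ≫ D.q) D.tb ≫ D.sb) D.q,
      ∃ l : c.pt ⟶ pullback G.s G.t, l ≫ D.F₁ = c.fst ∧ l ≫ (pullback.snd G.s G.t ≫ G.s) = c.snd := by
    intro c
    let m := c.fst
    let a : c.pt ⟶ G.U := (m ≫ pullback.fst (G.s ≫ D.q) D.tb) ≫ G.s
    have h1 : a ≫ D.q = (m ≫ pullback.snd (G.s ≫ D.q) D.tb) ≫ D.tb := by
      simp only [a, Category.assoc, pullback.condition]
    have h2 : c.snd ≫ D.q = (m ≫ pullback.snd (G.s ≫ D.q) D.tb) ≫ D.sb := by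
      rw [Category.assoc]; exact c.condition.symm
    have hab : a ≫ G.pU = c.snd ≫ G.pU := by
      rw [← D.hp, ← Category.assoc, h1, ← Category.assoc, h2]
      simp only [tb, sb, Category.assoc, pullback.condition]
    let β := D.sq.lift (m ≫ pullback.snd (G.s ≫ D.q) D.tb) (pullback.lift a c.snd hab) (by
      apply pullback.hom_ext
      · rw [Category.assoc, Category.assoc (pullback.lift a c.snd hab), qq_fst, pullback.lift_fst_assoc, h1]
        simp only [tb, Category.assoc]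
      · rw [Category.assoc, Category.assoc (pullback.lift a c.snd hab), qq_snd, pullback.lift_snd_assoc, h2]
        simp only [sb, Category.assoc])
    have hβt : β ≫ G.t = a := by
      rw [← j_fst, ← Category.assoc, D.sq.lift_snd, pullback.lift_fst]
    have hβs : β ≫ G.s = c.snd := by
      exact (congrArg (β ≫ ·) (j_snd (G := G)).symm).trans ((Category.assoc _ _ _).symm.trans
        ((congrArg (· ≫ _) (D.sq.lift_snd _ _ _)).trans (pullback.lift_snd _ _ _)))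
    refine ⟨pullback.lift (m ≫ pullback.fst (G.s ≫ D.q) D.tb) β hβt.symm, ?_, ?_⟩
    · apply pullback.hom_ext
      · rw [Category.assoc, F₁_fst, pullback.lift_fst]
      · rw [Category.assoc, F₁_snd, pullback.lift_snd_assoc, D.sq.lift_fst]
    · rw [pullback.lift_snd_assoc, hβs]
  choose l hl₁ hl₂ using key
  refine ⟨w, ⟨PullbackCone.IsLimit.mk _ l hl₁ hl₂ fun c m e₁ e₂ => ?_⟩⟩
  have hfst : m ≫ pullback.fst G.s G.t = l c ≫ pullback.fst G.s G.t := by
    rw [← F₁_fst, ← Category.assoc, ← Category.assoc, e₁, hl₁]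
  refine pullback.hom_ext hfst (D.hom_ext ?_ ?_ ?_)
  · rw [Category.assoc, Category.assoc, ← F₁_snd, ← Category.assoc, ← Category.assoc, e₁, hl₁]
  · rw [Category.assoc, Category.assoc, ← pullback.condition, ← Category.assoc, hfst, Category.assoc]
  · rw [Category.assoc, Category.assoc, e₂, hl₂]

/-- The map on composable pairs. -/
def F : pullback G.s G.t ⟶ pullback D.sb D.tb :=
  D.F₁ ≫ pullback.map (G.s ≫ D.q) D.tb D.sb D.tb D.ρ (𝟙 _) (𝟙 _)
    (by rw [Category.comp_id, ρ_sb]) (by rw [Category.comp_id, Category.id_comp])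

theorem F_fst : D.F ≫ pullback.fst D.sb D.tb = pullback.fst G.s G.t ≫ D.ρ := by
  rw [F, Category.assoc, pullback.lift_fst, ← Category.assoc, F₁_fst]

theorem F_snd : D.F ≫ pullback.snd D.sb D.tb = pullback.snd G.s G.t ≫ D.ρ := by
  rw [F, Category.assoc, pullback.lift_snd, Category.comp_id, F₁_snd]

theorem mem_F {P : MorphismProperty Scheme.{u}} [P.IsStableUnderBaseChange] [P.IsStableUnderComposition]
    [P.ContainsIdentities] (hq : P D.q) (hρ : P D.ρ) : P D.F :=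
  P.comp_mem _ _ (MorphismProperty.of_isPullback D.isPullback_F₁.flip hq)
    (MorphismProperty.pullbackMap (P := P) hρ (P.id_mem _) D.ρ_sb.symm (Category.id_comp _).symm)

instance : IsFinite D.F := D.mem_F (P := @IsFinite) inferInstance inferInstance
instance : Flat D.F := D.mem_F (P := @Flat) inferInstance inferInstance
instance : Surjective D.F := D.mem_F (P := @Surjective) inferInstance inferInstance

theorem lift_F (α β : T ⟶ G.R) (e : α ≫ G.s = β ≫ G.t) (e') :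
    pullback.lift α β e ≫ D.F = pullback.lift (f := D.sb) (g := D.tb) (α ≫ D.ρ) (β ≫ D.ρ) e' := by
  apply pullback.hom_ext
  · rw [Category.assoc, F_fst, pullback.lift_fst_assoc, pullback.lift_fst]
  · rw [Category.assoc, F_snd, pullback.lift_snd_assoc, pullback.lift_snd]

theorem lift_pair (α : T ⟶ pullback G.s G.t) : pullback.lift (α ≫ pullback.fst G.s G.t) (α ≫ pullback.snd G.s G.t)
    (by rw [Category.assoc, Category.assoc, pullback.condition]) = α := by
  apply pullback.hom_ext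
  · rw [pullback.lift_fst]
  · rw [pullback.lift_snd]

theorem comp_c {a : T ⟶ pullback G.s G.t} :
    a ≫ G.c = cmp G (a ≫ pullback.fst G.s G.t) (a ≫ pullback.snd G.s G.t)
      (by rw [Category.assoc, Category.assoc, pullback.condition]) := by
  show _ = pullback.lift _ _ _ ≫ G.c
  rw [lift_pair]

theorem cmp_ρ_congr {α α' β β' : T ⟶ G.R} (e : α ≫ G.s = β ≫ G.t) (e' : α' ≫ G.s = β' ≫ G.t)
    (h₁ : α ≫ D.ρ = α' ≫ D.ρ) (h₂ : β ≫ D.ρ = β' ≫ D.ρ) :
    cmp G α β e ≫ D.ρ = cmp G α' β' e' ≫ D.ρ := by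
  obtain ⟨ea, eb⟩ := D.ends h₁
  obtain ⟨-, ec⟩ := D.ends h₂
  rw [cmp_congr' (D.eq_tr h₁) ((D.eq_tr h₂).trans (tr_congr D.h rfl e'.symm rfl _ _)) e' (by rw [tr_s, tr_t]),
    cmp_tr_tr D.h α β _ _ _ e ea eb ec, D.inv_ρ]

theorem cb_wd {Z : Scheme.{u}} (g₁ g₂ : Z ⟶ pullback G.s G.t) (e : g₁ ≫ D.F = g₂ ≫ D.F) :
    g₁ ≫ G.c ≫ D.ρ = g₂ ≫ G.c ≫ D.ρ := by
    rw [← Category.assoc, ← Category.assoc, comp_c, comp_c]
    refine D.cmp_ρ_congr _ _ ?_ ?_
    · simpa only [Category.assoc, F_fst] using congrArg (· ≫ pullback.fst D.sb D.tb) e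
    · simpa only [Category.assoc, F_snd] using congrArg (· ≫ pullback.snd D.sb D.tb) e

/-- Composition on the quotient. -/
def cb : pullback D.sb D.tb ⟶ D.Rb :=
  EffectiveEpi.desc D.F (G.c ≫ D.ρ) D.cb_wd

theorem F_cb : D.F ≫ D.cb = G.c ≫ D.ρ := EffectiveEpi.fac D.F _ D.cb_wd

theorem lift_cb (α β : T ⟶ G.R) (e : α ≫ G.s = β ≫ G.t) (e') :
    pullback.lift (f := D.sb) (g := D.tb) (α ≫ D.ρ) (β ≫ D.ρ) e' ≫ D.cb = cmp G α β e ≫ D.ρ := by
  rw [← D.lift_F α β e, Category.assoc, F_cb, ← Category.assoc]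
  rfl

theorem eb_wd {Z : Scheme.{u}} (a b : Z ⟶ G.U) (e : a ≫ D.q = b ≫ D.q) :
    a ≫ G.e ≫ D.ρ = b ≫ G.e ≫ D.ρ := by
    have h₁ : ((a ≫ G.e) ≫ G.t) ≫ D.q = b ≫ D.q := by rw [Category.assoc a, G.e_t, Category.comp_id, e]
    have h₂ : ((a ≫ G.e) ≫ G.s) ≫ D.q = b ≫ D.q := by rw [Category.assoc a, G.e_s, Category.comp_id, e]
    rw [← Category.assoc, ← Category.assoc, ← D.inv_ρ (a ≫ G.e) b b h₁ h₂]
    congr 1
    have e1 : cmp G (arr D.h ((a ≫ G.e) ≫ G.t) b h₁) (a ≫ G.e) (arr_s _ _ _ _) =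
        arr D.h ((a ≫ G.e) ≫ G.t) b h₁ := cmp_id' _ _ _
    have k : arr D.h ((a ≫ G.e) ≫ G.t) b h₁ ≫ G.s = arr D.h b ((a ≫ G.e) ≫ G.s) h₂.symm ≫ G.t := by
      rw [arr_s, arr_t, Category.assoc, Category.assoc, G.e_t, G.e_s]
    show cmp G _ _ _ = _
    refine (cmp_congr' e1 rfl _ k).trans ?_
    have ha : (a ≫ G.e) ≫ G.s = (a ≫ G.e) ≫ G.t := by rw [Category.assoc, Category.assoc, G.e_t, G.e_s]
    refine (cmp_congr' rfl (arr_congr D.h rfl ha _) _ (by rw [arr_s, arr_t])).trans ?_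
    rw [cmp_arr]
    exact arr_self D.h b

/-- The identity of the quotient. -/
def eb : D.Ub ⟶ D.Rb :=
  EffectiveEpi.desc D.q (G.e ≫ D.ρ) D.eb_wd

theorem q_eb : D.q ≫ D.eb = G.e ≫ D.ρ := EffectiveEpi.fac D.q _ D.eb_wd

theorem ib_wd {Z : Scheme.{u}} (v w : Z ⟶ G.R) (e : v ≫ D.ρ = w ≫ D.ρ) :
    v ≫ G.i ≫ D.ρ = w ≫ G.i ≫ D.ρ := by
    rw [← Category.assoc, ← Category.assoc]
    show inv' v ≫ D.ρ = inv' w ≫ D.ρ
    conv_rhs => rw [D.eq_tr e, inv_tr, D.inv_ρ]

/-- The inverse of the quotient. -/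
def ib : D.Rb ⟶ D.Rb :=
  EffectiveEpi.desc D.ρ (G.i ≫ D.ρ) D.ib_wd

theorem ρ_ib : D.ρ ≫ D.ib = G.i ≫ D.ρ := EffectiveEpi.fac D.ρ _ D.ib_wd

theorem cb_sb : D.cb ≫ D.sb = pullback.snd D.sb D.tb ≫ D.sb := by
  rw [← cancel_epi D.F, ← Category.assoc, F_cb, Category.assoc, ρ_sb, ← Category.assoc D.F, F_snd,
    Category.assoc, ρ_sb, ← Category.assoc, ← Category.assoc]
  congr 1
  have := cmp_s (G := G) (pullback.fst G.s G.t) (pullback.snd G.s G.t) pullback.condition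
  rw [← this]
  show _ = (pullback.lift _ _ _ ≫ G.c) ≫ G.s
  rw [show pullback.lift (pullback.fst G.s G.t) (pullback.snd G.s G.t) pullback.condition = 𝟙 _ by
    apply pullback.hom_ext <;> simp, Category.id_comp]

end QData

end Groth.Agent.SubQuot19
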