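import Groth.Agent.Lib.SubQuot19.Arr
import Groth.Agent.Lib.SchDesc12.LQF

/-! # Descending the arrows along the quotient of the objects -/

set_option autoImplicit false
set_option linter.style.haveILetI false
set_option backward.isDefEq.respectTransparency.types false
universe u

open CategoryTheory CategoryTheory.Limits AlgebraicGeometry

noncomputable section

namespace Groth.Agent.SubQuot19

open Groth.Agent.GrpdB

variable {S : Scheme.{u}} {G : Grpd.GroupoidScheme S} {P : Scheme.{u}} {ι : P ⟶ G.R} {Ub : Scheme.{u}}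
  {q : G.U ⟶ Ub} (h : Sub G ι q) (pUb : Ub ⟶ S) (hp : q ≫ pUb = G.pU)

/-- `q × q`. -/
def qq : pullback G.pU G.pU ⟶ pullback pUb pUb :=
  pullback.map G.pU G.pU pUb pUb q q (𝟙 S) ((Category.comp_id _).trans hp.symm)
    ((Category.comp_id _).trans hp.symm)

theorem qq_fst : qq pUb hp ≫ pullback.fst pUb pUb = pullback.fst G.pU G.pU ≫ q := pullback.lift_fst _ _ _
theorem qq_snd : qq pUb hp ≫ pullback.snd pUb pUb = pullback.snd G.pU G.pU ≫ q := pullback.lift_snd _ _ _

variable {T T' : Scheme.{u}}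

theorem fst_q {x₀ x₁ : T ⟶ pullback G.pU G.pU} (e : x₀ ≫ qq pUb hp = x₁ ≫ qq pUb hp) :
    (x₀ ≫ pullback.fst G.pU G.pU) ≫ q = (x₁ ≫ pullback.fst G.pU G.pU) ≫ q := by
  simpa only [Category.assoc, qq_fst] using congrArg (· ≫ pullback.fst pUb pUb) e

theorem snd_q {x₀ x₁ : T ⟶ pullback G.pU G.pU} (e : x₀ ≫ qq pUb hp = x₁ ≫ qq pUb hp) :
    (x₀ ≫ pullback.snd G.pU G.pU) ≫ q = (x₁ ≫ pullback.snd G.pU G.pU) ≫ q := by
  simpa only [Category.assoc, qq_snd] using congrArg (· ≫ pullback.snd pUb pUb) e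

theorem comp_j_fst {v : T ⟶ G.R} {x : T ⟶ pullback G.pU G.pU} (e : v ≫ G.j = x) :
    v ≫ G.t = x ≫ pullback.fst G.pU G.pU := by rw [← e, Category.assoc, j_fst]

theorem comp_j_snd {v : T ⟶ G.R} {x : T ⟶ pullback G.pU G.pU} (e : v ≫ G.j = x) :
    v ≫ G.s = x ≫ pullback.snd G.pU G.pU := by rw [← e, Category.assoc, j_snd]

/-- Transport of an arrow to other ends. -/
def move (x₀ x₁ : T ⟶ pullback G.pU G.pU) (e : x₀ ≫ qq pUb hp = x₁ ≫ qq pUb hp)
    (v : Desc.Lifts (Over.mk G.j) x₀) : Desc.Lifts (Over.mk G.j) x₁ :=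
  ⟨tr h v.1 (x₁ ≫ pullback.fst G.pU G.pU) (x₁ ≫ pullback.snd G.pU G.pU)
    (by rw [comp_j_fst v.2]; exact fst_q pUb hp e) (by rw [comp_j_snd v.2]; exact snd_q pUb hp e), by
    apply pullback.hom_ext
    · exact (Category.assoc _ _ _).trans ((congrArg (_ ≫ ·) j_fst).trans (tr_t h _ _ _ _ _))
    · exact (Category.assoc _ _ _).trans ((congrArg (_ ≫ ·) j_snd).trans (tr_s h _ _ _ _ _))⟩

theorem move_self (x : T ⟶ pullback G.pU G.pU) (v : Desc.Lifts (Over.mk G.j) x) :
    move h pUb hp x x rfl v = v :=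
  Subtype.ext (tr_self h v.1 _ _ (comp_j_fst v.2).symm (comp_j_snd v.2).symm)

theorem move_move (x₀ x₁ x₂ : T ⟶ pullback G.pU G.pU) (e : x₀ ≫ qq pUb hp = x₁ ≫ qq pUb hp)
    (e' : x₁ ≫ qq pUb hp = x₂ ≫ qq pUb hp) (v : Desc.Lifts (Over.mk G.j) x₀) :
    move h pUb hp x₁ x₂ e' (move h pUb hp x₀ x₁ e v) = move h pUb hp x₀ x₂ (e.trans e') v :=
  Subtype.ext (by
    simp only [move]
    exact tr_tr h v.1 _ _ _ _ (by rw [comp_j_fst v.2]; exact fst_q pUb hp e)
      (by rw [comp_j_snd v.2]; exact snd_q pUb hp e) (fst_q pUb hp e') (snd_q pUb hp e'))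

/-- The descent datum on the arrows. -/
def datum : Desc.SchDD (qq pUb hp) where
  obj := Over.mk G.j
  φ T x₀ x₁ e :=
    { toFun := move h pUb hp x₀ x₁ e
      invFun := move h pUb hp x₁ x₀ e.symm
      left_inv := fun v => (move_move h pUb hp _ _ _ e e.symm v).trans (move_self h pUb hp _ v)
      right_inv := fun v => (move_move h pUb hp _ _ _ e.symm e v).trans (move_self h pUb hp _ v) }
  φ_natural T T' g x₀ x₁ e e' v v' hv := by
    show (move h pUb hp (g ≫ x₀) (g ≫ x₁) e' v').1 = g ≫ (move h pUb hp x₀ x₁ e v).1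
    simp only [move]
    rw [comp_tr]
    exact tr_congr h hv (Category.assoc _ _ _) (Category.assoc _ _ _) _ _
  φ_self T x v := move_self h pUb hp x v
  φ_comp T x₀ x₁ x₂ e e' v := move_move h pUb hp _ _ _ e e' v

include h in
theorem exists_descend [IsFinite q] [Flat q] [Surjective q] [LocallyOfFinitePresentation q]
    [IsSeparated G.j] [LocallyQuasiFinite G.j] [LocallyOfFiniteType G.j] :
    ∃ (Rb : Scheme.{u}) (jb : Rb ⟶ pullback pUb pUb) (ρ : G.R ⟶ Rb),
      IsPullback ρ G.j jb (qq pUb hp) ∧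
      ∀ {T : Scheme.{u}} (v : T ⟶ G.R) (a b : T ⟶ G.U) (ea : (v ≫ G.t) ≫ q = a ≫ q)
        (eb : (v ≫ G.s) ≫ q = b ≫ q), tr h v a b ea eb ≫ ρ = v ≫ ρ := by
  haveI : Flat (qq pUb hp) := MorphismProperty.pullbackMap (P := @Flat) ‹Flat q› ‹Flat q› hp.symm hp.symm
  haveI : Surjective (qq pUb hp) :=
    MorphismProperty.pullbackMap (P := @Surjective) ‹Surjective q› ‹Surjective q› hp.symm hp.symm
  haveI : LocallyOfFinitePresentation (qq pUb hp) :=
    MorphismProperty.pullbackMap (P := @LocallyOfFinitePresentation) ‹LocallyOfFinitePresentation q›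
      ‹LocallyOfFinitePresentation q› hp.symm hp.symm
  let D := datum h pUb hp
  haveI : IsSeparated D.obj.hom := ‹IsSeparated G.j›
  haveI : LocallyQuasiFinite D.obj.hom := ‹LocallyQuasiFinite G.j›
  haveI : LocallyOfFiniteType D.obj.hom := ‹LocallyOfFiniteType G.j›
  have hf : Presieve.ofArrows (fun _ : PUnit.{u + 1} => pullback G.pU G.pU) (fun _ => qq pUb hp) ∈
      Scheme.fpqcPrecoverage (pullback pUb pUb) := by
    rw [Presieve.ofArrows_pUnit]
    exact Scheme.fppfPrecoverage_le_fpqcPrecoverage _ (Scheme.Hom.singleton_mem_fppfPrecoverage (qq pUb hp))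
  obtain ⟨V, ⟨e⟩⟩ := SchDesc12.exists_iso_of_isEffective D
    (SchDesc12.isEffective_of_lqf hf (fun _ => inferInstance)
      (fun _ => inferInstanceAs (IsSeparated D.obj.hom))
      (fun _ => inferInstanceAs (LocallyQuasiFinite D.obj.hom))
      (fun _ => inferInstanceAs (LocallyOfFiniteType D.obj.hom)))
  let f : pullback (qq pUb hp) V.hom ⟶ G.R := e.hom.hom.left
  let g : G.R ⟶ pullback (qq pUb hp) V.hom := e.inv.hom.left
  have hfg : f ≫ g = 𝟙 _ := congrArg (fun m => m.hom.left) e.hom_inv_id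
  have hgf : g ≫ f = 𝟙 _ := congrArg (fun m => m.hom.left) e.inv_hom_id
  have hf1 : f ≫ G.j = pullback.fst (qq pUb hp) V.hom := Over.w e.hom.hom
  have hg1 : g ≫ pullback.fst (qq pUb hp) V.hom = G.j := by rw [← hf1, ← Category.assoc, hgf, Category.id_comp]
  haveI : IsIso f := ⟨g, hfg, hgf⟩
  refine ⟨V.left, V.hom, g ≫ pullback.snd (qq pUb hp) V.hom, ?_, ?_⟩
  · refine IsPullback.of_iso_pullback ⟨?_⟩ ((⟨g, f, hgf, hfg⟩ : G.R ≅ pullback (qq pUb hp) V.hom) ≪≫ pullbackSymmetry _ _) ?_ ?_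
    · rw [Category.assoc, ← pullback.condition, ← Category.assoc, hg1]
    · simp
    · simp [hg1]
  · intro T v a b ea eb
    let x₀ := v ≫ G.j
    have hab : a ≫ G.pU = b ≫ G.pU := by
      rw [← hp, ← Category.assoc, ← ea, ← Category.assoc, ← eb]
      simp only [Category.assoc, hp, G.t_over, G.s_over]
    let x₁ : T ⟶ pullback G.pU G.pU := pullback.lift a b hab
    have hx : x₀ ≫ qq pUb hp = x₁ ≫ qq pUb hp := by
      apply pullback.hom_ext
      · simp only [Category.assoc, qq_fst, x₀, x₁]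
        rw [pullback.lift_fst_assoc, ← Category.assoc G.j, j_fst, ← ea, Category.assoc]
      · simp only [Category.assoc, qq_snd, x₀, x₁]
        rw [pullback.lift_snd_assoc, ← Category.assoc G.j, j_snd, ← eb, Category.assoc]
    have hc := e.inv.comm x₀ x₁ hx ⟨v, rfl⟩ ⟨v ≫ g, (Category.assoc _ _ _).trans (congrArg (v ≫ ·) hg1)⟩ rfl
    have h2 := congrArg (· ≫ pullback.snd (qq pUb hp) V.hom) hc
    have h3 : tr h v a b ea eb = tr h v (x₁ ≫ pullback.fst G.pU G.pU) (x₁ ≫ pullback.snd G.pU G.pU)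
        (by rw [pullback.lift_fst, ea]) (by rw [pullback.lift_snd, eb]) :=
      tr_congr h rfl (pullback.lift_fst _ _ _).symm (pullback.lift_snd _ _ _).symm _ _
    rw [h3, ← Category.assoc, ← Category.assoc]
    exact h2.symm.trans (pullback.lift_snd _ _ _)

end Groth.Agent.SubQuot19
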