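import Groth.Agent.Lib.SubQuot19.Data

/-! # The quotient groupoid: axioms -/

set_option autoImplicit false
set_option linter.style.haveILetI false
set_option backward.isDefEq.respectTransparency.types false
universe u

open CategoryTheory CategoryTheory.Limits AlgebraicGeometry

noncomputable section

namespace Groth.Agent.SubQuot19.QData

open Groth.Agent.GrpdB

variable {S : Scheme.{u}} {G : Grpd.GroupoidScheme S} (D : QData G) {T : Scheme.{u}}

theorem q_pUb : D.q ≫ D.pUb = G.pU := D.hp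

theorem cb_tb : D.cb ≫ D.tb = pullback.fst D.sb D.tb ≫ D.tb := by
  rw [← cancel_epi D.F, ← Category.assoc, F_cb, Category.assoc, ρ_tb, ← Category.assoc D.F, F_fst,
    Category.assoc, ρ_tb, ← Category.assoc, ← Category.assoc]
  congr 1
  rw [← cmp_t (G := G) (pullback.fst G.s G.t) (pullback.snd G.s G.t) pullback.condition]
  show _ = (pullback.lift _ _ _ ≫ G.c) ≫ G.t
  rw [show pullback.lift (pullback.fst G.s G.t) (pullback.snd G.s G.t) pullback.condition = 𝟙 _ by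
    apply pullback.hom_ext <;> simp, Category.id_comp]

theorem eb_sb : D.eb ≫ D.sb = 𝟙 D.Ub := by
  rw [← cancel_epi D.q, ← Category.assoc, q_eb, Category.assoc, ρ_sb, ← Category.assoc, G.e_s,
    Category.id_comp, Category.comp_id]

theorem eb_tb : D.eb ≫ D.tb = 𝟙 D.Ub := by
  rw [← cancel_epi D.q, ← Category.assoc, q_eb, Category.assoc, ρ_tb, ← Category.assoc, G.e_t,
    Category.id_comp, Category.comp_id]

theorem ib_sb : D.ib ≫ D.sb = D.tb := by
  rw [← cancel_epi D.ρ, ← Category.assoc, ρ_ib, Category.assoc, ρ_sb, ρ_tb, ← Category.assoc, G.i_s]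

theorem ib_tb : D.ib ≫ D.tb = D.sb := by
  rw [← cancel_epi D.ρ, ← Category.assoc, ρ_ib, Category.assoc, ρ_tb, ρ_sb, ← Category.assoc, G.i_t]

theorem comp_id_b (α : T ⟶ D.Rb) (e : α ≫ D.sb = (α ≫ D.sb ≫ D.eb) ≫ D.tb) :
    pullback.lift α (α ≫ D.sb ≫ D.eb) e ≫ D.cb = α := by
  have key : pullback.lift (𝟙 D.Rb) (D.sb ≫ D.eb) (by rw [Category.id_comp, Category.assoc, eb_tb, Category.comp_id])
      ≫ D.cb = 𝟙 D.Rb := by
    rw [← cancel_epi D.ρ, ← Category.assoc]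
    refine Eq.trans ?_ (Category.comp_id _).symm
    have h1 : 𝟙 G.R ≫ G.s = (G.s ≫ G.e) ≫ G.t := by rw [Category.id_comp, Category.assoc, G.e_t, Category.comp_id]
    have h2 := D.lift_cb (𝟙 G.R) (G.s ≫ G.e) h1 (by
      rw [Category.id_comp, ρ_sb, Category.assoc (G.s ≫ G.e), ρ_tb, ← Category.assoc (G.s ≫ G.e),
        Category.assoc G.s, G.e_t, Category.comp_id])
    rw [cmp_id' _ _ h1] at h2
    refine Eq.trans ?_ (h2.trans (Category.id_comp _))
    congr 1
    apply pullback.hom_ext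
    · rw [Category.assoc, pullback.lift_fst, pullback.lift_fst, Category.comp_id, Category.id_comp]
    · rw [Category.assoc, pullback.lift_snd, pullback.lift_snd, Category.assoc, ← q_eb, ← Category.assoc,
        ρ_sb, Category.assoc]
  conv_rhs => rw [← Category.comp_id α, ← key, ← Category.assoc]
  congr 1
  apply pullback.hom_ext
  · rw [pullback.lift_fst, Category.assoc, pullback.lift_fst, Category.comp_id]
  · rw [pullback.lift_snd, Category.assoc, pullback.lift_snd]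

theorem id_comp_b (α : T ⟶ D.Rb) (e : (α ≫ D.tb ≫ D.eb) ≫ D.sb = α ≫ D.tb) :
    pullback.lift (α ≫ D.tb ≫ D.eb) α e ≫ D.cb = α := by
  have key : pullback.lift (D.tb ≫ D.eb) (𝟙 D.Rb) (by rw [Category.id_comp, Category.assoc, eb_sb, Category.comp_id])
      ≫ D.cb = 𝟙 D.Rb := by
    rw [← cancel_epi D.ρ, ← Category.assoc]
    refine Eq.trans ?_ (Category.comp_id _).symm
    have h1 : (G.t ≫ G.e) ≫ G.s = 𝟙 G.R ≫ G.t := by rw [Category.id_comp, Category.assoc, G.e_s, Category.comp_id]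
    have h2 := D.lift_cb (G.t ≫ G.e) (𝟙 G.R) h1 (by
      rw [Category.id_comp, ρ_tb, Category.assoc (G.t ≫ G.e), ρ_sb, ← Category.assoc (G.t ≫ G.e),
        Category.assoc G.t, G.e_s, Category.comp_id])
    rw [id_cmp' _ _ h1] at h2
    refine Eq.trans ?_ (h2.trans (Category.id_comp _))
    congr 1
    apply pullback.hom_ext
    · rw [Category.assoc, pullback.lift_fst, pullback.lift_fst, Category.assoc, ← q_eb, ← Category.assoc,
        ρ_tb, Category.assoc]
    · rw [Category.assoc, pullback.lift_snd, pullback.lift_snd, Category.comp_id, Category.id_comp]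
  conv_rhs => rw [← Category.comp_id α, ← key, ← Category.assoc]
  congr 1
  apply pullback.hom_ext
  · rw [pullback.lift_fst, Category.assoc, pullback.lift_fst]
  · rw [pullback.lift_snd, Category.assoc, pullback.lift_snd, Category.comp_id]

theorem comp_inv_b (α : T ⟶ D.Rb) (e : α ≫ D.sb = (α ≫ D.ib) ≫ D.tb) :
    pullback.lift α (α ≫ D.ib) e ≫ D.cb = α ≫ D.tb ≫ D.eb := by
  have key : pullback.lift (𝟙 D.Rb) D.ib (by rw [Category.id_comp, ib_tb]) ≫ D.cb = D.tb ≫ D.eb := by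
    rw [← cancel_epi D.ρ, ← Category.assoc]
    have h1 : 𝟙 G.R ≫ G.s = G.i ≫ G.t := by rw [Category.id_comp, G.i_t]
    have h2 := D.lift_cb (𝟙 G.R) G.i h1 (by
      rw [Category.id_comp, ρ_sb, Category.assoc, ρ_tb, ← Category.assoc, G.i_t])
    have h3 : cmp G (𝟙 G.R) G.i h1 = G.t ≫ G.e := by
      refine ((cmp_congr rfl (Category.id_comp G.i).symm _).trans (G.comp_i (𝟙 G.R))).trans ?_
      rw [Category.id_comp]
    rw [h3] at h2
    rw [show D.ρ ≫ D.tb ≫ D.eb = (G.t ≫ G.e) ≫ D.ρ by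
      rw [← Category.assoc, ρ_tb, Category.assoc, q_eb, Category.assoc], ← h2]
    congr 1
    apply pullback.hom_ext
    · rw [Category.assoc, pullback.lift_fst, pullback.lift_fst, Category.comp_id, Category.id_comp]
    · rw [Category.assoc, pullback.lift_snd, pullback.lift_snd, ρ_ib]
  rw [← key, ← Category.assoc]
  congr 1
  apply pullback.hom_ext
  · rw [pullback.lift_fst, Category.assoc, pullback.lift_fst, Category.comp_id]
  · rw [pullback.lift_snd, Category.assoc, pullback.lift_snd]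

theorem inv_comp_b (α : T ⟶ D.Rb) (e : (α ≫ D.ib) ≫ D.sb = α ≫ D.tb) :
    pullback.lift (α ≫ D.ib) α e ≫ D.cb = α ≫ D.sb ≫ D.eb := by
  have key : pullback.lift D.ib (𝟙 D.Rb) (by rw [Category.id_comp, ib_sb]) ≫ D.cb = D.sb ≫ D.eb := by
    rw [← cancel_epi D.ρ, ← Category.assoc]
    have h1 : G.i ≫ G.s = 𝟙 G.R ≫ G.t := by rw [Category.id_comp, G.i_s]
    have h2 := D.lift_cb G.i (𝟙 G.R) h1 (by
      rw [Category.id_comp, ρ_tb, Category.assoc, ρ_sb, ← Category.assoc, G.i_s])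
    have h3 : cmp G G.i (𝟙 G.R) h1 = G.s ≫ G.e := by
      refine ((cmp_congr (Category.id_comp G.i).symm rfl _).trans (G.i_comp (𝟙 G.R))).trans ?_
      rw [Category.id_comp]
    rw [h3] at h2
    rw [show D.ρ ≫ D.sb ≫ D.eb = (G.s ≫ G.e) ≫ D.ρ by
      rw [← Category.assoc, ρ_sb, Category.assoc, q_eb, Category.assoc], ← h2]
    congr 1
    apply pullback.hom_ext
    · rw [Category.assoc, pullback.lift_fst, pullback.lift_fst, ρ_ib]
    · rw [Category.assoc, pullback.lift_snd, pullback.lift_snd, Category.comp_id, Category.id_comp]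
  rw [← key, ← Category.assoc]
  congr 1
  apply pullback.hom_ext
  · rw [pullback.lift_fst, Category.assoc, pullback.lift_fst]
  · rw [pullback.lift_snd, Category.assoc, pullback.lift_snd, Category.comp_id]

theorem cb_eq (α β : T ⟶ D.Rb) (e : α ≫ D.sb = β ≫ D.tb) (a b : T ⟶ G.R) (hab : a ≫ G.s = b ≫ G.t)
    (ha : a ≫ D.ρ = α) (hb : b ≫ D.ρ = β) : pullback.lift α β e ≫ D.cb = cmp G a b hab ≫ D.ρ := by
  subst ha hb
  exact D.lift_cb a b hab e

theorem comp_sb (α β : T ⟶ D.Rb) (e : α ≫ D.sb = β ≫ D.tb) :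
    (pullback.lift α β e ≫ D.cb) ≫ D.sb = β ≫ D.sb := by
  rw [Category.assoc, cb_sb, pullback.lift_snd_assoc]

theorem comp_tb (α β : T ⟶ D.Rb) (e : α ≫ D.sb = β ≫ D.tb) :
    (pullback.lift α β e ≫ D.cb) ≫ D.tb = α ≫ D.tb := by
  rw [Category.assoc, cb_tb, pullback.lift_fst_assoc]

/-- Composable pairs lift after a finite faithfully flat base change. -/
theorem exists_lift_pair (α β : T ⟶ D.Rb) (e : α ≫ D.sb = β ≫ D.tb) :
    ∃ (T' : Scheme.{u}) (π : T' ⟶ T) (a b : T' ⟶ G.R) (_ : a ≫ G.s = b ≫ G.t), Epi π ∧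
      a ≫ D.ρ = π ≫ α ∧ b ≫ D.ρ = π ≫ β := by
  let x := pullback.lift α β e
  refine ⟨pullback D.F x, pullback.snd D.F x, pullback.fst D.F x ≫ pullback.fst G.s G.t,
    pullback.fst D.F x ≫ pullback.snd G.s G.t, by rw [Category.assoc, Category.assoc, pullback.condition],
    inferInstance, ?_, ?_⟩
  · rw [Category.assoc, ← F_fst, pullback.condition_assoc, pullback.lift_fst]
  · rw [Category.assoc, ← F_snd, pullback.condition_assoc, pullback.lift_snd]

theorem assoc_b (α β γ : T ⟶ D.Rb) (h₁ : α ≫ D.sb = β ≫ D.tb) (h₂ : β ≫ D.sb = γ ≫ D.tb) :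
    pullback.lift (pullback.lift α β h₁ ≫ D.cb) γ ((D.comp_sb α β h₁).trans h₂) ≫ D.cb =
      pullback.lift α (pullback.lift β γ h₂ ≫ D.cb) (h₁.trans (D.comp_tb β γ h₂).symm) ≫ D.cb := by
  obtain ⟨T₁, π₁, a, b, hab, hπ₁, ha, hb⟩ := D.exists_lift_pair α β h₁
  obtain ⟨T₂, π₂, b', c', hbc', hπ₂, hb', hc'⟩ := D.exists_lift_pair (π₁ ≫ β) (π₁ ≫ γ)
    (by rw [Category.assoc, Category.assoc, h₂])
  have hπ : Epi (π₂ ≫ π₁) := epi_comp _ _
  rw [← cancel_epi (π₂ ≫ π₁)]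
  have hbb : b' ≫ D.ρ = (π₂ ≫ b) ≫ D.ρ := by rw [hb', Category.assoc, hb]
  have e1 : (c' ≫ G.t) ≫ D.q = ((π₂ ≫ b) ≫ G.s) ≫ D.q := by rw [← hbc']; exact (D.ends hbb).2
  let c := tr D.h c' ((π₂ ≫ b) ≫ G.s) (c' ≫ G.s) e1 rfl
  have hab₂ : (π₂ ≫ a) ≫ G.s = (π₂ ≫ b) ≫ G.t := by rw [Category.assoc, Category.assoc, hab]
  have hbc : (π₂ ≫ b) ≫ G.s = c ≫ G.t := (tr_t _ _ _ _ _ _).symm
  have hA : (π₂ ≫ a) ≫ D.ρ = (π₂ ≫ π₁) ≫ α := by rw [Category.assoc, ha, Category.assoc]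
  have hB : (π₂ ≫ b) ≫ D.ρ = (π₂ ≫ π₁) ≫ β := by rw [Category.assoc, hb, Category.assoc]
  have hC : c ≫ D.ρ = (π₂ ≫ π₁) ≫ γ := by rw [D.inv_ρ, hc', Category.assoc]
  have hl : (π₂ ≫ π₁) ≫ pullback.lift α β h₁ ≫ D.cb = cmp G (π₂ ≫ a) (π₂ ≫ b) hab₂ ≫ D.ρ := by
    rw [← D.cb_eq ((π₂ ≫ π₁) ≫ α) ((π₂ ≫ π₁) ≫ β) (by rw [Category.assoc, Category.assoc (π₂ ≫ π₁), h₁]) _ _ hab₂ hA hB,
      ← Category.assoc]
    congr 1
    apply pullback.hom_ext
    · rw [pullback.lift_fst, Category.assoc, pullback.lift_fst]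
    · rw [pullback.lift_snd, Category.assoc, pullback.lift_snd]
  have hr : (π₂ ≫ π₁) ≫ pullback.lift β γ h₂ ≫ D.cb = cmp G (π₂ ≫ b) c hbc ≫ D.ρ := by
    rw [← D.cb_eq ((π₂ ≫ π₁) ≫ β) ((π₂ ≫ π₁) ≫ γ) (by rw [Category.assoc, Category.assoc (π₂ ≫ π₁), h₂]) _ _ hbc hB hC,
      ← Category.assoc]
    congr 1
    apply pullback.hom_ext
    · rw [pullback.lift_fst, Category.assoc, pullback.lift_fst]
    · rw [pullback.lift_snd, Category.assoc, pullback.lift_snd]
  have k₁ : cmp G (π₂ ≫ a) (π₂ ≫ b) hab₂ ≫ G.s = c ≫ G.t := (cmp_s _ _ _).trans hbc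
  have k₂ : (π₂ ≫ a) ≫ G.s = cmp G (π₂ ≫ b) c hbc ≫ G.t := hab₂.trans (cmp_t _ _ _).symm
  rw [← Category.assoc, ← Category.assoc,
    show (π₂ ≫ π₁) ≫ pullback.lift (pullback.lift α β h₁ ≫ D.cb) γ ((D.comp_sb α β h₁).trans h₂) =
      pullback.lift ((π₂ ≫ π₁) ≫ pullback.lift α β h₁ ≫ D.cb) ((π₂ ≫ π₁) ≫ γ)
        (by simp only [Category.assoc, cb_sb, pullback.lift_snd_assoc, h₂]) by
      apply pullback.hom_ext
      · rw [pullback.lift_fst, Category.assoc, pullback.lift_fst]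
      · rw [pullback.lift_snd, Category.assoc, pullback.lift_snd],
    show (π₂ ≫ π₁) ≫ pullback.lift α (pullback.lift β γ h₂ ≫ D.cb) (h₁.trans (D.comp_tb β γ h₂).symm) =
      pullback.lift ((π₂ ≫ π₁) ≫ α) ((π₂ ≫ π₁) ≫ pullback.lift β γ h₂ ≫ D.cb)
        (by simp only [Category.assoc, cb_tb, pullback.lift_fst_assoc, h₁]) by
      apply pullback.hom_ext
      · rw [pullback.lift_fst, Category.assoc, pullback.lift_fst]
      · rw [pullback.lift_snd, Category.assoc, pullback.lift_snd],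
    D.cb_eq _ _ _ _ _ k₁ hl.symm hC, D.cb_eq _ _ _ _ _ k₂ hA hr.symm]
  congr 1
  exact cmp_assoc _ _ _ hab₂ hbc

/-- The quotient groupoid. -/
def quot : Grpd.GroupoidScheme S where
  U := D.Ub
  R := D.Rb
  pU := D.pUb
  pR := D.sb ≫ D.pUb
  s := D.sb
  t := D.tb
  e := D.eb
  i := D.ib
  c := D.cb
  s_over := rfl
  t_over := by rw [sb, tb, Category.assoc, Category.assoc, pullback.condition]
  comp_s α β e := D.comp_sb α β e
  comp_t α β e := D.comp_tb α β e
  assoc α β γ h₁ h₂ := D.assoc_b α β γ h₁ h₂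
  e_s := D.eb_sb
  e_t := D.eb_tb
  comp_e α := D.comp_id_b α _
  e_comp α := D.id_comp_b α _
  i_s := D.ib_sb
  i_t := D.ib_tb
  comp_i α := D.comp_inv_b α _
  i_comp α := D.inv_comp_b α _

/-- The projection to the quotient groupoid. -/
def proj : Grpd.GroupoidScheme.Hom G D.quot where
  fU := D.q
  fR := D.ρ
  fU_over := D.hp
  comm_s := D.ρ_sb
  comm_t := D.ρ_tb
  comm_c α β e := (D.lift_cb α β e _).symm

theorem isPullback_proj :
    IsPullback D.proj.fR G.j D.quot.j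
      (pullback.map G.pU G.pU D.quot.pU D.quot.pU D.proj.fU D.proj.fU (𝟙 S)
        ((Category.comp_id _).trans D.proj.fU_over.symm) ((Category.comp_id _).trans D.proj.fU_over.symm)) := by
  have h : D.quot.j = D.jb := by
    apply pullback.hom_ext
    · exact pullback.lift_fst _ _ _
    · exact pullback.lift_snd _ _ _
  rw [h]
  exact D.sq

end Groth.Agent.SubQuot19.QData
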